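import Cfsg.Agent.H794.EM.Main

/-!
# S4933, label route, `Q = 1` modulo `p` (helper941): labels with rows at the elements of order `p`

* `Qfix`, `perZ_fix`, `canon_fix` : the labels of order `p` are fixed by `Q`;
* `rowsL` : the label with the rows `(k c)`;
* `exists_rows` : its character is in the principal block, the valuation of its degree is that of the multinomial.
-/

set_option autoImplicit false
set_option linter.unusedSectionVars false

open Cfsg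
open scoped ComplexConjugate

namespace Cfsg.Agent.H941.HT

open Cfsg.Agent.H577.GLB.Std Cfsg.Agent.H614 Cfsg.Agent.H614.GLn.RSt
open Cfsg.Agent.H614.GLn hiding bsz
open Cfsg.Agent.H794.XZ Cfsg.Agent.H794.EM
open Cfsg.Agent.Characters Cfsg.Agent.Blocks.Basic Cfsg.Agent.Blocks.Local
open Cfsg.Agent.H623.GU Cfsg.Agent.H112.GLB Cfsg.Agent.H615.GU

universe u v

section lab

variable {Q : ℤ} {M : ℕ} [NeZero M] {p : ℕ}

theorem Qfix (hQ1 : (Q : ZMod p) = 1) {c : ZMod M} (hc : p • c = 0) : (Q : ZMod M) * c = c := by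
  have h1 : ((Q - 1 : ℤ) : ZMod p) = 0 := by push_cast; rw [hQ1, sub_self]
  rw [ZMod.intCast_zmod_eq_zero_iff_dvd] at h1
  obtain ⟨r, hr⟩ := h1
  have h2 : (Q : ZMod M) = 1 + (p : ZMod M) * (r : ZMod M) := by
    have h3 := congrArg (fun z : ℤ => (z : ZMod M)) hr
    push_cast at h3
    rw [← h3]
    ring
  rw [nsmul_eq_mul] at hc
  rw [h2, add_mul, one_mul, mul_assoc, mul_comm (r : ZMod M) c, ← mul_assoc, hc, zero_mul, add_zero]

theorem Qpow_fix (hQ1 : (Q : ZMod p) = 1) {c : ZMod M} (hc : p • c = 0) (j : ℕ) : (Q : ZMod M) ^ j * c = c := by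
  induction j with
  | zero => rw [pow_zero, one_mul]
  | succ j ih => rw [pow_succ, mul_assoc, Qfix hQ1 hc, ih]

theorem perZ_fix (hQ1 : (Q : ZMod p) = 1) {c : ZMod M} (hc : p • c = 0) : perZ Q M c = 1 := by
  rw [perZ, Function.minimalPeriod_eq_one_iff_isFixedPt]
  exact Qfix hQ1 hc

theorem canon_fix (hQ1 : (Q : ZMod p) = 1) {c : ZMod M} (hc : p • c = 0) : canon Q M c = c := by
  obtain ⟨j, hj⟩ := sameZ_canon (Q := Q) c
  rw [hj, Qpow_fix hQ1 hc]

theorem tors_mul_iff (hQ : IsUnit (Q : ZMod M)) (c : ZMod M) : p • ((Q : ZMod M) * c) = 0 ↔ p • c = 0 := by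
  rw [nsmul_eq_mul, nsmul_eq_mul, mul_left_comm]
  exact ⟨fun h => (hQ.mul_right_eq_zero).1 h, fun h => by rw [h, mul_zero]⟩

/-- the label with the rows `(k c)` -/
noncomputable def rowsL (hQ : IsUnit (Q : ZMod M)) (hQ1 : (Q : ZMod p) = 1) {n : ℕ} (hn : 0 < n) (k : ZMod M → ℕ)
    (hk : ∀ c, p • c ≠ 0 → k c = 0) (hs : ∑ c, k c = n) : LabZ Q M n n where
  t c := row n (k c)
  mono _ := Cfsg.Agent.H531.HT.row_mono _ _
  orb c := by
    by_cases h : p • c = 0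
    · rw [Qfix hQ1 h]
    · rw [hk c h, hk _ (fun h' => h ((tors_mul_iff hQ c).1 h'))]
  sum := by
    refine (Finset.sum_congr rfl fun c _ => ?_).trans hs
    exact Cfsg.Agent.H531.HT.sum_row' hn (k c)

variable (hQ : IsUnit (Q : ZMod M)) (hQ1 : (Q : ZMod p) = 1) {n : ℕ} (hn : 0 < n) (k : ZMod M → ℕ)
    (hk : ∀ c, p • c ≠ 0 → k c = 0) (hs : ∑ c, k c = n)

theorem Sch_rows (hn : 0 < n) (c : ZMod M) : Sch Q M c (row n (k c)) = hh (fun j => Pw Q M j c) (k c) := by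
  rw [Cfsg.Agent.H76.GLB.Sch_eq, Cfsg.Agent.H531.HT.sum_row' hn, SS_row _ hn]

theorem kap_rows : Cfsg.Agent.H531.HT.kap Q M p (SchP Q M (rowsL hQ hQ1 hn k hk hs).t) ≠ 0 := by
  classical
  rw [SchP, map_prod, Finset.prod_ne_zero_iff]
  intro c _
  change Cfsg.Agent.H531.HT.kap Q M p (Sch Q M c (row n (k c))) ≠ 0
  rw [Cfsg.Agent.H76.GLB.Sch_eq, Cfsg.Agent.H531.HT.sum_row' hn, Cfsg.Agent.H531.HT.map_SS, SS_row _ hn]
  by_cases h : p • c = 0
  · obtain ⟨r, hr, h1⟩ := Cfsg.Agent.H531.HT.hh_pos (P := fun j => Cfsg.Agent.H531.HT.kap Q M p (Pw Q M j c))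
      (fun j hj => Cfsg.Agent.H531.HT.kap_Pw_pos hQ ⟨1, by rw [pow_one, ← nsmul_eq_mul, h]⟩ hj) (k c)
    rw [h1]
    exact_mod_cast hr.ne'
  · rw [hk c h, hh_zero]
    exact one_ne_zero

theorem eps_rows (ht : ∀ i, 0 < i → (Q : ℂ) ^ i ≠ 1) :
    eps Q M (SchP Q M (rowsL hQ hQ1 hn k hk hs).t) = ∏ c, (ph (Q : ℂ) (k c))⁻¹ := by
  classical
  rw [SchP, map_prod]
  rw [← Finset.prod_subset (Finset.filter_subset (fun c : ZMod M => canon Q M c = c) Finset.univ)]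
  · refine Finset.prod_congr rfl fun c _ => ?_
    change eps Q M (Sch Q M c (row n (k c))) = _
    rw [Sch_rows k hn, eps_hh Q M hQ ht]
    by_cases h : p • c = 0
    · rw [perZ_fix hQ1 h, Nat.sub_self, pow_zero, one_pow, one_mul, pow_one]
    · rw [hk c h, ph_zero, ph_zero, pow_zero, one_mul]
  · intro c _ hc
    have h : p • c ≠ 0 := by
      intro h
      exact hc (Finset.mem_filter.2 ⟨Finset.mem_univ _, canon_fix hQ1 h⟩)
    rw [hk c h, ph_zero, inv_one]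

end lab

section tow

variable {K : Type u} [Field K] {θ : K →*₀ ℂ} {Q : ℤ} {M : ℕ} [NeZero M] {N p : ℕ} {G : ℕ → Type u} [∀ n, Group (G n)]
    [∀ n, Finite (G n)] {𝔐 : Ideal AlgInt}

theorem vz_prod {ι : Type*} (s : Finset ι) (f : ι → ℤ) (hf : ∀ i ∈ s, f i ≠ 0) : vz p (∏ i ∈ s, f i) = ∑ i ∈ s, vz p (f i) := by
  classical
  induction s using Finset.induction_on with
  | empty => simp [vz]
  | insert a s ha ih =>
    rw [Finset.prod_insert ha, Finset.sum_insert ha, vz_mul (hf a (Finset.mem_insert_self _ _))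
      (Finset.prod_ne_zero_iff.2 fun i hi => hf i (Finset.mem_insert_of_mem hi)),
      ih fun i hi => hf i (Finset.mem_insert_of_mem hi)]

/-- **the character of the label with the rows `(k c)`** -/
theorem exists_rows (hp : p.Prime) (ho : Odd p) (h𝔐 : IsPModular p 𝔐) (ctx : CtxQ θ Q M N)
    (t : Tow θ Q M N p G) {n : ℕ} (hn : n ≤ N) (hn0 : 0 < n) (h1 : (t.T n hn).typ 1 = tyOne Q n)
    (hQ1 : (Q : ZMod p) = 1) (k : ZMod M → ℕ) (hk : ∀ c, p • c ≠ 0 → k c = 0) (hs : ∑ c, k c = n) :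
    ∃ (χ : IrrCharacter (G n)) (T : LabZ Q M n n), (t.R n hn).IsLb χ T ∧ χ ∈ principalBlock 𝔐 (G n) ∧
      (charDegree (χ : G n → ℂ)).factorization p + ∑ c, ((k c).factorial).factorization p =
        (n.factorial).factorization p ∧ ∀ c, T.t c = row n (k c) := by
  classical
  have hK := kap_rows ctx.unit hQ1 hn0 k hk hs
  rw [← Cfsg.Agent.H531.HT.form_tau_row ctx.unit hn0 (schP_mem_hom ctx.unit (rowsL ctx.unit hQ1 hn0 k hk hs))] at hK
  obtain ⟨χ, s, hχ, hB, hd⟩ := lab_ex h𝔐 ctx t hn hn0 h1 (rowsL ctx.unit hQ1 hn0 k hk hs) hK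
  refine ⟨χ, _, hχ, hB, ?_, fun c => rfl⟩
  rw [eps_rows ctx.unit hQ1 hn0 k hk hs (ht_of ctx)] at hd
  have h2 : ∀ c, PH Q (k c) ≠ 0 := fun c => PH_ne ctx.two _
  have h3 : (charDegree (χ : G n → ℂ) : ℤ) * ∏ c, PH Q (k c) = (s : ℤ) * PH Q n := by
    have h4 : ((charDegree (χ : G n → ℂ) : ℤ) : ℂ) * ((∏ c, PH Q (k c) : ℤ) : ℂ) = ((s : ℤ) : ℂ) * ((PH Q n : ℤ) : ℂ) := by
      have h5 : ((∏ c, PH Q (k c) : ℤ) : ℂ) = ∏ c, ph (Q : ℂ) (k c) := by
        rw [Int.cast_prod]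
        exact Finset.prod_congr rfl fun c _ => PH_cast _ _
      have h6 : (∏ c, ph (Q : ℂ) (k c)) ≠ 0 := by
        rw [← h5]
        exact_mod_cast Finset.prod_ne_zero_iff.2 fun c _ => h2 c
      rw [h5, PH_cast, Int.cast_natCast, hd, Finset.prod_inv_distrib, mul_assoc, mul_assoc, inv_mul_cancel₀ h6, mul_one]
    exact_mod_cast h4
  have he : orderOf (Q : ZMod p) = 1 := by rw [hQ1, orderOf_one]
  have hN : ∀ m, vz p (PH Q m) = m * vz p (Q ^ 1 - 1) + (m.factorial).factorization p := by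
    intro m
    have h4 := N1 hp ho ctx.two he m
    rwa [Nat.div_one] at h4
  have h7 : (charDegree (χ : G n → ℂ) : ℤ) ≠ 0 := by
    intro h0
    rw [h0, zero_mul] at h3
    rcases mul_eq_zero.1 h3.symm with h8 | h8
    · exact s.ne_zero h8
    · exact PH_ne ctx.two n h8
  have h9 := congrArg (vz p) h3
  rw [vz_mul h7 (Finset.prod_ne_zero_iff.2 fun c _ => h2 c), vz_unit, vz_natCast, vz_prod _ _ (fun c _ => h2 c), hN] at h9
  simp only [hN] at h9
  rw [Finset.sum_add_distrib, ← Finset.sum_mul, hs] at h9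
  omega

end tow

end Cfsg.Agent.H941.HT
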