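import Cfsg.Agent.H941.HT.EOne
import Cfsg.Agent.H577.HT.Mult

/-!
# S4933, label route, `Q = 1` modulo `p` (helper941): a character with trivial central character

* `exists_tr` : transport of helper577's multiplicities from `ZMod p` to the elements of order `p` of `ZMod M`;
* `exists_e1` : a character of height one in the principal block, labels of order `p` with sum zero, not shift invariant.
-/

set_option autoImplicit false
set_option linter.unusedSectionVars false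

open Cfsg
open scoped ComplexConjugate

namespace Cfsg.Agent.H941.HT

open Cfsg.Agent.H577.GLB.Std Cfsg.Agent.H614
open Cfsg.Agent.H794.XZ Cfsg.Agent.H794.EM
open Cfsg.Agent.Blocks.Basic
open Cfsg.Agent.H623.GU Cfsg.Agent.H112.GLB Cfsg.Agent.H615.GU

universe u v

/-- transport of the multiplicities -/
theorem exists_tr {p M n : ℕ} [hp : Fact p.Prime] [NeZero M] (hpM : p ∣ M) (hn : 0 < n) (k : ZMod p → ℕ)
    (h1 : ∑ x, k x = n) (h2 : ∑ x, (k x : ZMod p) * x = 0) (h3 : ∀ d ≠ 0, ∃ x, k (x + d) ≠ k x) :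
    ∃ K : ZMod M → ℕ, (∀ c, p • c ≠ 0 → K c = 0) ∧ (∑ c, K c = n) ∧ (∑ c, K c • c = 0) ∧
      (∀ δ ≠ 0, ∃ c, K (c + δ) ≠ K c) ∧ ∀ f : ℕ → ℕ, f 0 = 0 → ∑ c, f (K c) = ∑ x, f (k x) := by
  classical
  obtain ⟨r, hr⟩ := hpM
  have hM : M ≠ 0 := NeZero.ne M
  have hr0 : r ≠ 0 := by rintro rfl; exact hM (by rw [hr, mul_zero])
  -- the embedding
  have hc0 : (p : ℤ) • ((r : ℕ) : ZMod M) = 0 := by
    rw [natCast_zsmul, nsmul_eq_mul, ← Nat.cast_mul, ← hr, ZMod.natCast_self]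
  obtain ⟨φ, hφ⟩ : ∃ φ : ZMod p →+ ZMod M, ∀ z : ℤ, φ (z : ZMod p) = z • ((r : ℕ) : ZMod M) := by
    refine ⟨ZMod.lift p ⟨zmultiplesHom (ZMod M) ((r : ℕ) : ZMod M), ?_⟩, fun z => ?_⟩
    · rw [zmultiplesHom_apply]
      exact hc0
    · rw [ZMod.lift_coe]
      rfl
  have hinj : Function.Injective φ := by
    rw [injective_iff_map_eq_zero]
    intro x hx
    obtain ⟨z, rfl⟩ := ZMod.intCast_surjective x
    rw [hφ, zsmul_eq_mul, ← Int.cast_natCast (R := ZMod M) r, ← Int.cast_mul, ZMod.intCast_zmod_eq_zero_iff_dvd] at hx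
    rw [ZMod.intCast_zmod_eq_zero_iff_dvd]
    have h4 : ((M : ℕ) : ℤ) = (p : ℤ) * r := by exact_mod_cast hr
    rw [h4] at hx
    exact Int.dvd_of_mul_dvd_mul_right (by exact_mod_cast hr0) hx
  have hpφ : ∀ x, p • φ x = 0 := fun x => by
    rw [← map_nsmul, nsmul_eq_mul, ZMod.natCast_self, zero_mul, map_zero]
  let K : ZMod M → ℕ := fun c => ∑ x, if φ x = c then k x else 0
  have hK1 : ∀ x, K (φ x) = k x := by
    intro x
    change (∑ y, if φ y = φ x then k y else 0) = k x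
    rw [Finset.sum_eq_single x]
    · rw [if_pos rfl]
    · intro y _ hy
      rw [if_neg fun h => hy (hinj h)]
    · intro h
      exact absurd (Finset.mem_univ x) h
  have hK2 : ∀ c, K c ≠ 0 → ∃ x, φ x = c := by
    intro c hc
    by_contra h
    push Not at h
    exact hc (Finset.sum_eq_zero fun x _ => if_neg (h x))
  have hsum : ∀ {A : Type} [AddCommMonoid A] (f : ZMod M → A), (∀ c, K c = 0 → f c = 0) → ∑ c, f c = ∑ x, f (φ x) := by
    intro A _ f hf
    rw [← Finset.sum_image (s := Finset.univ) (g := φ) (f := f) fun x _ y _ h => hinj h]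
    refine (Finset.sum_subset (Finset.subset_univ _) fun c _ hc => hf c ?_).symm
    by_contra h
    obtain ⟨x, rfl⟩ := hK2 c h
    exact hc (Finset.mem_image_of_mem φ (Finset.mem_univ x))
  refine ⟨K, ?_, ?_, ?_, ?_, ?_⟩
  · intro c hc
    by_contra h
    obtain ⟨x, rfl⟩ := hK2 c h
    exact hc (hpφ x)
  · rw [hsum K fun c h => h, Finset.sum_congr rfl fun x _ => hK1 x, h1]
  · rw [hsum (fun c => K c • c) fun c h => by rw [h, zero_smul]]
    have h4 : ∀ x, K (φ x) • φ x = φ ((k x : ZMod p) * x) := fun x => by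
      rw [hK1, ← nsmul_eq_mul, map_nsmul]
    rw [Finset.sum_congr rfl fun x _ => h4 x, ← map_sum, h2, map_zero]
  · intro δ hδ
    by_contra h
    push Not at h
    obtain ⟨x, hx⟩ : ∃ x, k x ≠ 0 := by
      by_contra h5
      push Not at h5
      rw [Finset.sum_eq_zero fun x _ => h5 x] at h1
      omega
    have h5 : K (φ x + δ) ≠ 0 := by rw [h (φ x), hK1]; exact hx
    obtain ⟨y, hy⟩ := hK2 _ h5
    have h6 : δ = φ (y - x) := by rw [map_sub, hy]; abel
    have h7 : y - x ≠ 0 := by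
      intro h8
      rw [h8, map_zero] at h6
      exact hδ h6
    obtain ⟨z, hz⟩ := h3 _ h7
    apply hz
    have h8 := h (φ z)
    rwa [h6, ← map_add, hK1, hK1] at h8
  · intro f hf
    rw [hsum (fun c => f (K c)) fun c h => by rw [h, hf]]
    exact Finset.sum_congr rfl fun x _ => by rw [hK1]

section tow

variable {K : Type u} [Field K] {θ : K →*₀ ℂ} {Q : ℤ} {M : ℕ} [NeZero M] {N p : ℕ} {G : ℕ → Type u} [∀ n, Group (G n)]
    [∀ n, Finite (G n)] {𝔐 : Ideal AlgInt}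

/-- **a character of height one with trivial central character** -/
theorem exists_e1 [hp : Fact p.Prime] (ho : Odd p) (h𝔐 : IsPModular p 𝔐) (ctx : CtxQ θ Q M N) (t : Tow θ Q M N p G)
    {n : ℕ} (hn : n ≤ N) (h1 : (t.T n hn).typ 1 = tyOne Q n) (hQ1 : (Q : ZMod p) = 1) (hpM : p ∣ M) (hpn : p ≤ n)
    (h33 : ¬ (n = 3 ∧ p = 3)) :
    ∃ (χ : IrrCharacter (G n)) (T : LabZ Q M n n), (t.R n hn).IsLb χ T ∧ χ ∈ principalBlock 𝔐 (G n) ∧
      (charDegree (χ : G n → ℂ)).factorization p = 1 ∧ (∀ c, p • c ≠ 0 → bsz (T.t c) = 0) ∧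
      ∑ c, bsz (T.t c) • c = 0 ∧ ∀ δ ≠ 0, ∃ c, T.t (c + δ) ≠ T.t c := by
  have hn0 : 0 < n := hp.out.pos.trans_le hpn
  obtain ⟨k, k1, k2, k3, k4⟩ := Cfsg.Agent.H577.HT.exists_mult ho hpn h33
  obtain ⟨L, l1, l2, l3, l4, l5⟩ := exists_tr hpM hn0 k k1 k2 k3
  obtain ⟨χ, T, hχ, hB, hd, hT⟩ := exists_rows hp.out ho h𝔐 ctx t hn hn0 h1 hQ1 L l1 l2
  have hb : ∀ c, bsz (T.t c) = L c := fun c => by
    rw [hT]
    exact Cfsg.Agent.H531.HT.sum_row' hn0 (L c)
  refine ⟨χ, T, hχ, hB, ?_, fun c hc => by rw [hb, l1 c hc], ?_, fun δ hδ => ?_⟩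
  · have h2 := l5 (fun i => (i.factorial).factorization p) (by simp)
    rw [h2, k4] at hd
    omega
  · rw [← l3]
    exact Finset.sum_congr rfl fun c _ => by rw [hb]
  · obtain ⟨c, hc⟩ := l4 δ hδ
    refine ⟨c, fun h => hc ?_⟩
    rw [← hb, ← hb, h]

end tow

end Cfsg.Agent.H941.HT
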